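import Groth.Agent.StrictSSX16.Node
import Groth.Agent.GrpSchLib.SmoothRegular
import Groth.Agent.GrpSchLib.SmoothReduced
import Groth.Agent.RegLoc6.Basic
import Groth.Agent.H23.FinCondSch
import Groth.Agent.H23.RedSub
import Mathlib.AlgebraicGeometry.Morphisms.ClosedImmersion
import Mathlib.AlgebraicGeometry.Morphisms.Etale

/-!
# The components of a strictly semistable curve over a field are smooth
-/

set_option autoImplicit false
set_option backward.isDefEq.respectTransparency false
set_option backward.isDefEq.respectTransparency.types false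
set_option linter.style.haveILetI false

universe u

open CategoryTheory CategoryTheory.Limits AlgebraicGeometry TopologicalSpace

noncomputable section

namespace Groth.Agent.StrictSSX16

open Groth.Agent

/-- A morphism from a reduced scheme whose image lies in that of an immersion factors through it. -/
theorem exists_lift {X Y Z : Scheme.{u}} [IsReduced X] (f : X ⟶ Y) (j : Z ⟶ Y) [IsImmersion j]
    (h : Set.range f ⊆ Set.range j) : ∃ g : X ⟶ Z, g ≫ j = f := by
  haveI : Surjective (pullback.fst f j) := ⟨fun x => by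
    have : x ∈ Set.range (pullback.fst f j) := by
      rw [Scheme.Pullback.range_fst]
      exact h ⟨x, rfl⟩
    exact this⟩
  haveI : IsClosedImmersion (pullback.fst f j) := IsClosedImmersion.of_isPreimmersion _ (by
    rw [Set.range_eq_univ.2 (pullback.fst f j).surjective]; exact isClosed_univ)
  haveI := isIso_of_isClosedImmersion_of_surjective (pullback.fst f j)
  exact ⟨inv (pullback.fst f j) ≫ pullback.snd f j, by
    rw [Category.assoc, ← pullback.condition, IsIso.inv_hom_id_assoc]⟩

variable {k : Type u} [Field k] {C : Scheme.{u}} (φ : C ⟶ Spec (CommRingCat.of k)) (Z : Closeds C)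

/-- The reduced subscheme. -/
abbrev red : Scheme.{u} := (Scheme.IdealSheafData.vanishingIdeal Z).subscheme

/-- Its inclusion. -/
abbrev redι : red Z ⟶ C := (Scheme.IdealSheafData.vanishingIdeal Z).subschemeι

instance : IsReduced (red Z) := H23.RedSub.isReduced_vanishingIdeal Z

/-- If near `x` a component lies in a smooth branch then it is smooth near `x`. -/
theorem smooth_near_of_branch (hZ : (Z : Set C) ∈ irreducibleComponents C) {T : Scheme.{u}} (c : T ⟶ C)
    [IsImmersion c] [Smooth (c ≫ φ)] {x : C} (hx : x ∈ (Z : Set C)) (U₀ : C.Opens) (hxU : x ∈ U₀)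
    (hsub : (Z : Set C) ∩ U₀ ⊆ Set.range c) :
    ∃ O : C.Opens, x ∈ O ∧ Smooth ((redι Z ⁻¹ᵁ O).ι ≫ redι Z ≫ φ) := by
  obtain ⟨t, rfl⟩ := hsub ⟨hx, hxU⟩
  haveI : IsLocallyNoetherian T := LocallyOfFiniteType.isLocallyNoetherian (c ≫ φ)
  haveI : IsReduced T := GrpSchLib.isReduced_of_smooth_field (c ≫ φ)
  haveI := GrpSchLib.isRegularLocalRing_stalk_of_smooth (c ≫ φ) t
  haveI := RegLoc6.isDomain_of_isRegularLocalRing (T.presheaf.stalk t)
  obtain ⟨V, htV, hV⟩ := H23.FinCondSch.exists_irreducible_nhd t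
    (by rw [nilradical_eq_zero]; exact Ideal.isPrime_bot)
  obtain ⟨O₁, hO₁, hVO⟩ := c.isEmbedding.isInducing.isOpen_iff.1 V.2
  let O : C.Opens := ⟨O₁, hO₁⟩ ⊓ U₀
  have htO : c t ∈ O := ⟨(Set.ext_iff.1 hVO t).2 htV, hxU⟩
  have hirr : IsIrreducible (c ⁻¹' (O : Set C)) :=
    ⟨⟨t, htO⟩, hV.isPreirreducible.open_subset (O.2.preimage c.continuous) fun s hs => (Set.ext_iff.1 hVO s).1 hs.1⟩
  have himg : IsIrreducible (c '' (c ⁻¹' (O : Set C))) := hirr.image c c.continuous.continuousOn
  have hle : (Z : Set C) ∩ O ⊆ c '' (c ⁻¹' (O : Set C)) := by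
    rintro y ⟨hyZ, hyO⟩
    obtain ⟨s, rfl⟩ := hsub ⟨hyZ, hyO.2⟩
    exact ⟨s, hyO, rfl⟩
  have hdense : (Z : Set C) ⊆ closure ((Z : Set C) ∩ O) :=
    subset_closure_inter_of_isPreirreducible_of_isOpen hZ.1.isPreirreducible O.2 ⟨c t, hx, htO⟩
  have hge : c '' (c ⁻¹' (O : Set C)) ⊆ (Z : Set C) :=
    subset_closure.trans (hZ.2 himg.closure (hdense.trans (closure_mono hle)))
  refine ⟨O, htO, ?_⟩
  -- compare the two reduced subschemes of `O`
  let a := (redι Z ⁻¹ᵁ O).ι ≫ redι Z
  let b := (c ⁻¹ᵁ O).ι ≫ c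
  haveI : IsImmersion a := inferInstance
  haveI : IsImmersion b := inferInstance
  have hab : Set.range a = Set.range b := by
    rw [Scheme.Hom.comp_base, TopCat.coe_comp, Set.range_comp, Scheme.Opens.range_ι]
    rw [Scheme.Hom.comp_base, TopCat.coe_comp, Set.range_comp, Scheme.Opens.range_ι]
    show redι Z '' (redι Z ⁻¹' (O : Set C)) = c '' (c ⁻¹' (O : Set C))
    rw [Set.image_preimage_eq_inter_range, H23.RedSub.range_vanishingIdeal]
    exact Set.Subset.antisymm (fun y hy => hle ⟨hy.2, hy.1⟩)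
      (fun y hy => ⟨by obtain ⟨s, hs, rfl⟩ := hy; exact hs, hge hy⟩)
  obtain ⟨g, hg⟩ := exists_lift a b hab.le
  obtain ⟨g', hg'⟩ := exists_lift b a hab.ge
  haveI : IsIso g := ⟨g', by rw [← cancel_mono a, Category.assoc, hg', hg, Category.id_comp],
    by rw [← cancel_mono b, Category.assoc, hg, hg', Category.id_comp]⟩
  show Smooth ((redι Z ⁻¹ᵁ O).ι ≫ redι Z ≫ φ)
  rw [← Category.assoc, show (redι Z ⁻¹ᵁ O).ι ≫ redι Z = g ≫ b from hg.symm, Category.assoc, Category.assoc]
  infer_instance

section Models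

variable (A : Type u) [CommRing A]

/-- The `i`-th axis of the degenerate node. -/
def axisHom (i : Fin 2) : StrictSS.NodeAlg A (0 : A) →+* Polynomial A :=
  Ideal.Quotient.lift _ (MvPolynomial.aeval fun j => if j = i then (Polynomial.X : Polynomial A) else 0).toRingHom
    fun z hz => by
      obtain ⟨w, rfl⟩ := Ideal.mem_span_singleton'.1 hz
      fin_cases i <;> simp

theorem axisHom_mk (i : Fin 2) (p : MvPolynomial (Fin 2) A) :
    axisHom A i (Ideal.Quotient.mk _ p) =
      MvPolynomial.aeval (fun j => if j = i then (Polynomial.X : Polynomial A) else 0) p := rfl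

theorem axisHom_algebraMap (i : Fin 2) (r : A) :
    axisHom A i (algebraMap A (StrictSS.NodeAlg A (0 : A)) r) = Polynomial.C r := by
  show axisHom A i (Ideal.Quotient.mk _ (MvPolynomial.C r)) = _
  rw [axisHom_mk, MvPolynomial.aeval_C]
  rfl

theorem axisHom_surjective (i : Fin 2) : Function.Surjective (axisHom A i) := by
  intro q
  induction q using Polynomial.induction_on with
  | C r => exact ⟨_, axisHom_algebraMap A i r⟩
  | add p q hp hq =>
    obtain ⟨a, rfl⟩ := hp; obtain ⟨b, rfl⟩ := hq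
    exact ⟨a + b, map_add _ _ _⟩
  | monomial n r _ =>
    refine ⟨algebraMap A _ r * Ideal.Quotient.mk _ (MvPolynomial.X i) ^ (n + 1), ?_⟩
    rw [map_mul, map_pow, axisHom_algebraMap, axisHom_mk, MvPolynomial.aeval_X, if_pos rfl]

theorem mem_range_axis (i : Fin 2) (P : Spec (CommRingCat.of (StrictSS.NodeAlg A (0 : A))))
    (hP : (Ideal.Quotient.mk _ (MvPolynomial.X i.rev) : StrictSS.NodeAlg A (0 : A)) ∈ P.asIdeal) :
    P ∈ Set.range (Spec.map (CommRingCat.ofHom (axisHom A i))) := by
  let N := StrictSS.NodeAlg A (0 : A)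
  let u : N := Ideal.Quotient.mk _ (MvPolynomial.X i)
  let s : Polynomial A →+* N := (Polynomial.aeval u).toRingHom
  let q := Ideal.Quotient.mk P.asIdeal
  have h : (q.comp s).comp (axisHom A i) = q := by
    refine Ideal.Quotient.ringHom_ext (MvPolynomial.ringHom_ext (fun r => ?_) fun j => ?_)
    · show q (s (axisHom A i (Ideal.Quotient.mk _ (MvPolynomial.C r)))) = q (Ideal.Quotient.mk _ (MvPolynomial.C r))
      rw [axisHom_mk, MvPolynomial.aeval_C]
      exact congrArg q (Polynomial.aeval_C u r)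
    · show q (s (axisHom A i (Ideal.Quotient.mk _ (MvPolynomial.X j)))) = q (Ideal.Quotient.mk _ (MvPolynomial.X j))
      rw [axisHom_mk, MvPolynomial.aeval_X]
      rcases eq_or_ne j i with rfl | hj
      · rw [if_pos rfl]
        exact congrArg q (Polynomial.aeval_X u)
      · have : j = i.rev := by fin_cases i <;> fin_cases j <;> first | rfl | exact absurd rfl hj
        subst this
        rw [if_neg hj]
        show q (s 0) = _
        refine (congrArg q (map_zero s)).trans ((map_zero q).trans ?_)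
        exact (Ideal.Quotient.eq_zero_iff_mem.2 hP).symm
  refine ⟨⟨Ideal.comap s P.asIdeal, inferInstance⟩, PrimeSpectrum.ext ?_⟩
  show Ideal.comap (axisHom A i) (Ideal.comap s P.asIdeal) = P.asIdeal
  ext z
  rw [Ideal.mem_comap, Ideal.mem_comap, ← Ideal.Quotient.eq_zero_iff_mem, ← Ideal.Quotient.eq_zero_iff_mem]
  exact Eq.congr (RingHom.congr_fun h z) rfl

instance isClosedImmersion_axis (i : Fin 2) : IsClosedImmersion (Spec.map (CommRingCat.ofHom (axisHom A i))) :=
  IsClosedImmersion.spec_of_surjective _ (axisHom_surjective A i)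

theorem axis_over (i : Fin 2) :
    Spec.map (CommRingCat.ofHom (axisHom A i)) ≫ StrictSS.nodeToBase A 0 = StrictSS.lineToBase A := by
  rw [← Spec.map_comp, ← CommRingCat.ofHom_comp]
  congr 2
  exact RingHom.ext fun r => axisHom_algebraMap A i r

instance smooth_lineToBase : Smooth (StrictSS.lineToBase A) := by
  haveI := smoothOfRelativeDimension_spec 1 A (Polynomial A)
  exact SmoothOfRelativeDimension.smooth 1 (Spec.map (CommRingCat.ofHom (algebraMap A (Polynomial A))))

end Models

section Main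

variable {D : Scheme.{u}} (i : D ⟶ C)

theorem smooth_near [LocallyOfFiniteType φ] (hZ : (Z : Set C) ∈ irreducibleComponents C) {x : C} (hx : x ∈ (Z : Set C))
    (h : StrictSS.HasLineChartAt φ i x ∨ StrictSS.HasNodeChartAt φ i x) :
    ∃ O : C.Opens, x ∈ O ∧ Smooth ((redι Z ⁻¹ᵁ O).ι ≫ redι Z ≫ φ) := by
  rcases h with ⟨A, j, hj, U, hxU, q, hq, f, fD, hf, hfq, -, -⟩ | ⟨A, j, hj, U, hxU, q, hq, a, f, hf, hfq, -⟩
  · haveI := hj; haveI := hf
    haveI : Smooth (U.ι ≫ φ) := by rw [hq, ← hfq]; infer_instance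
    exact smooth_near_of_branch φ Z hZ U.ι hx U hxU fun y hy => by rw [Scheme.Opens.range_ι]; exact hy.2
  haveI := hj; haveI := hf
  let P := f ⟨x, hxU⟩
  let X' : Fin 2 → StrictSS.NodeAlg A a := fun l => Ideal.Quotient.mk _ (MvPolynomial.X l)
  by_cases hsm : ∃ l, X' l ∉ P.asIdeal
  · -- off the crossing point the model is smooth
    obtain ⟨l, hl⟩ := hsm
    let W : (U : Scheme.{u}).Opens := f ⁻¹ᵁ PrimeSpectrum.basicOpen (X' l)
    let L := Localization.Away (X' l)
    let w : Spec (CommRingCat.of L) ⟶ Spec (CommRingCat.of (StrictSS.NodeAlg A a)) :=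
      Spec.map (CommRingCat.ofHom (algebraMap (StrictSS.NodeAlg A a) L))
    haveI : IsOpenImmersion w := IsOpenImmersion.of_isLocalization (X' l)
    haveI := isStandardSmooth_node_away (a : A) l
    haveI : Smooth (w ≫ StrictSS.nodeToBase A a) := by
      haveI := smoothOfRelativeDimension_spec 1 A L
      rw [← Spec.map_comp, ← CommRingCat.ofHom_comp, ← IsScalarTower.algebraMap_eq]
      exact SmoothOfRelativeDimension.smooth 1 _
    let c : pullback f w ⟶ C := pullback.fst f w ≫ U.ι
    haveI : Smooth (c ≫ φ) := by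
      rw [Category.assoc, hq, ← hfq, Category.assoc, pullback.condition_assoc]
      haveI : Smooth ((pullback.snd f w ≫ w ≫ StrictSS.nodeToBase A a) ≫ j) := inferInstance
      simpa only [Category.assoc] using this
    have hr : Set.range (pullback.fst f w) = (W : Set (U : Scheme.{u})) := by
      rw [Scheme.Pullback.range_fst]
      ext y
      exact Set.ext_iff.1 (PrimeSpectrum.localization_away_comap_range L (X' l)) (f y)
    refine smooth_near_of_branch φ Z hZ c hx (U.ι ''ᵁ W) ⟨⟨x, hxU⟩, hl, rfl⟩ ?_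
    rintro _ ⟨-, y, hy, rfl⟩
    obtain ⟨s, hs⟩ := hr.ge hy
    exact ⟨s, congrArg U.ι hs⟩
  · -- at the crossing point the parameter is zero and the component lies on one of the axes
    push Not at hsm
    haveI : Nonempty (Spec A) := ⟨q ⟨x, hxU⟩⟩
    haveI : IsIso j := by
      haveI : Surjective j := ⟨fun s => ⟨q ⟨x, hxU⟩, Subsingleton.elim _ _⟩⟩
      haveI : Epi j.base := (TopCat.epi_iff_surjective _).2 j.surjective
      exact IsOpenImmersion.isIso (f := j)
    let e : A ≅ CommRingCat.of k := (Scheme.Spec.preimageIso (asIso j)).unop.symm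
    have hA : IsField A := e.commRingCatIsoToRingEquiv.toMulEquiv.isField (Field.toIsField k)
    letI := hA.toField
    have hmem : algebraMap A (StrictSS.NodeAlg A a) a ∈ P.asIdeal := by
      rw [← node_rel a 0]
      exact P.asIdeal.mul_mem_right _ (hsm 0)
    obtain rfl : a = 0 := by
      by_contra ha
      exact P.isPrime.ne_top (Ideal.eq_top_of_isUnit_mem _ hmem ((Ne.isUnit ha).map _))
    let g : Fin 2 → (Spec (CommRingCat.of (Polynomial A)) ⟶ Spec (CommRingCat.of (StrictSS.NodeAlg A (0 : A)))) :=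
      fun l => Spec.map (CommRingCat.ofHom (axisHom A l))
    let K : Fin 2 → Set (U : Scheme.{u}) := fun l => f ⁻¹' Set.range (g l)
    have hK : ∀ y, y ∈ K 0 ∪ K 1 := fun y => by
      have h0 : X' 0 * X' 1 ∈ (f y).asIdeal := by
        have := (node_rel (0 : A) 0).trans (RingHom.map_zero _)
        show (Ideal.Quotient.mk _ (MvPolynomial.X 0) : StrictSS.NodeAlg A (0 : A)) * _ ∈ _
        rw [show X' 1 = Ideal.Quotient.mk _ (MvPolynomial.X (Fin.rev 0)) from rfl, this]
        exact zero_mem _
      rcases (f y).isPrime.mem_or_mem h0 with h | h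
      · exact Or.inr (mem_range_axis A 1 (f y) h)
      · exact Or.inl (mem_range_axis A 0 (f y) h)
    have hirr : IsIrreducible (U.ι ⁻¹' (Z : Set C)) :=
      ⟨⟨⟨x, hxU⟩, hx⟩, hZ.1.isPreirreducible.preimage U.ι.isOpenEmbedding⟩
    have hcl : ∀ l, IsClosed (K l) := fun l =>
      ((g l).isClosedEmbedding.isClosed_range).preimage f.continuous
    obtain ⟨l, hl⟩ : ∃ l, U.ι ⁻¹' (Z : Set C) ⊆ K l := by
      rcases isPreirreducible_iff_isClosed_union_isClosed.1 hirr.2 (K 0) (K 1) (hcl 0) (hcl 1)
        (fun y _ => hK y) with h | h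
      · exact ⟨0, h⟩
      · exact ⟨1, h⟩
    let c : pullback f (g l) ⟶ C := pullback.fst f (g l) ≫ U.ι
    haveI : Smooth (c ≫ φ) := by
      rw [Category.assoc, hq, ← hfq, Category.assoc, pullback.condition_assoc, ← Category.assoc (g l), axis_over]
      infer_instance
    refine smooth_near_of_branch φ Z hZ c hx U hxU fun y hy => ?_
    obtain ⟨s, hs⟩ : (⟨y, hy.2⟩ : U) ∈ Set.range (pullback.fst f (g l)) := by
      rw [Scheme.Pullback.range_fst]
      exact hl hy.1
    exact ⟨s, congrArg U.ι hs⟩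

theorem smooth_component (h : StrictSS.IsStrictlySemistable φ i) (hZ : (Z : Set C) ∈ irreducibleComponents C) :
    Smooth (redι Z ≫ φ) := by
  haveI : LocallyOfFinitePresentation φ := h.1.2.1
  choose O hxO hO using fun w : red Z => smooth_near φ Z i hZ
    (x := redι Z w) ((H23.RedSub.range_vanishingIdeal Z).le ⟨w, rfl⟩) (h.2 _)
  exact IsZariskiLocalAtSource.of_iSup_eq_top (P := @Smooth) (fun w => redι Z ⁻¹ᵁ O w)
    (top_le_iff.1 fun w _ => Opens.mem_iSup.2 ⟨w, hxO w⟩) hO

end Main

end Groth.Agent.StrictSSX16
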