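import Groth.Prelude.Def_StrictSS
import Mathlib.AlgebraicGeometry.Morphisms.Smooth
import Mathlib.RingTheory.RingHom.StandardSmooth
import Mathlib.Algebra.MvPolynomial.Equiv

/-!
# The node model away from the origin is smooth (after `NodeFam.Models`)
-/

set_option autoImplicit false
set_option backward.isDefEq.respectTransparency false
set_option backward.isDefEq.respectTransparency.types false
set_option linter.style.haveILetI false

universe u

open CategoryTheory CategoryTheory.Limits AlgebraicGeometry

namespace Groth.Agent.StrictSSX16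

noncomputable section

section Line

theorem isStandardSmooth_mvPolynomial (R : Type u) [CommRing R] (ι : Type) [Finite ι] :
    Algebra.IsStandardSmoothOfRelativeDimension (Nat.card ι) R (MvPolynomial ι R) := by
  classical
  have hid : MvPolynomial.aeval (R := R) (MvPolynomial.X : ι → MvPolynomial ι R) = AlgHom.id R _ :=
    MvPolynomial.algHom_ext fun i => MvPolynomial.aeval_X _ i
  let G : Algebra.Generators R (MvPolynomial ι R) ι :=
    Algebra.Generators.ofSurjective MvPolynomial.X fun x => ⟨x, by rw [hid]; rfl⟩
  let P : Algebra.Presentation R (MvPolynomial ι R) ι PEmpty.{1} :=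
    { G with
      relation := PEmpty.elim
      span_range_relation_eq_ker := by
        simp only [Set.range_eq_empty, Ideal.span_empty]
        symm
        rw [← RingHom.injective_iff_ker_eq_bot]
        show Function.Injective (MvPolynomial.aeval (R := R) (MvPolynomial.X : ι → MvPolynomial ι R))
        rw [hid]
        exact fun a b h => h }
  let Q : Algebra.PreSubmersivePresentation R (MvPolynomial ι R) ι PEmpty.{1} :=
    { P with map := PEmpty.elim, map_inj := fun a => a.elim }
  have hQ : IsUnit Q.jacobian := by
    cases nonempty_fintype PEmpty.{1}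
    rw [Q.jacobian_eq_jacobiMatrix_det, Matrix.det_isEmpty, _root_.map_one]
    exact isUnit_one
  exact Algebra.SubmersivePresentation.isStandardSmoothOfRelativeDimension
    ({ Q with jacobian_isUnit := hQ } : Algebra.SubmersivePresentation R (MvPolynomial ι R) ι PEmpty.{1})
    (by simp [Algebra.Presentation.dimension])

/-- Standard smooth algebras give smooth morphisms. -/
theorem smoothOfRelativeDimension_spec (n : ℕ) (A N : Type u) [CommRing A] [CommRing N] [Algebra A N]
    [Algebra.IsStandardSmoothOfRelativeDimension n A N] :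
    SmoothOfRelativeDimension n (Spec.map (CommRingCat.ofHom (algebraMap A N))) := by
  rw [HasRingHomProperty.Spec_iff (P := @SmoothOfRelativeDimension n)]
  exact RingHom.locally_of RingHom.isStandardSmoothOfRelativeDimension_respectsIso _
    ((RingHom.isStandardSmoothOfRelativeDimension_algebraMap n).2 inferInstance)

instance isStandardSmooth_polynomial (A : Type u) [CommRing A] :
    Algebra.IsStandardSmoothOfRelativeDimension 1 A (Polynomial A) := by
  haveI : Algebra.IsStandardSmoothOfRelativeDimension 1 A (MvPolynomial (Fin 1) A) := by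
    simpa using isStandardSmooth_mvPolynomial A (Fin 1)
  exact Algebra.IsStandardSmoothOfRelativeDimension.of_algEquiv (R := A) (S := MvPolynomial (Fin 1) A) 1
    (MvPolynomial.uniqueAlgEquiv A (Fin 1))

end Line

section Node

variable {A : Type u} [CommRing A] (a : A)

theorem node_rel (j : Fin 2) :
    (Ideal.Quotient.mk _ (MvPolynomial.X j) : StrictSS.NodeAlg A a) * Ideal.Quotient.mk _ (MvPolynomial.X j.rev) =
      algebraMap A (StrictSS.NodeAlg A a) a := by
  have h : (Ideal.Quotient.mk _ (MvPolynomial.X 0) : StrictSS.NodeAlg A a) * Ideal.Quotient.mk _ (MvPolynomial.X 1) =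
      algebraMap A (StrictSS.NodeAlg A a) a :=
    (map_mul _ _ _).symm.trans (Ideal.Quotient.eq.2 (Ideal.mem_span_singleton_self _))
  fin_cases j
  · exact h
  · exact (mul_comm _ _).trans h

/-- An algebra generated by an invertible element is a punctured line. -/
theorem nonempty_punctured {A N Nu : Type u} [CommRing A] [CommRing N] [Algebra A N] [CommRing Nu]
    [Algebra A Nu] [Algebra N Nu] [IsScalarTower A N Nu] (u v : N) (a : A) (huv : u * v = algebraMap A N a)
    [IsLocalization.Away u Nu]
    (hlift : ∀ {T : Type u} [CommRing T] [Algebra A T] (x y : T), x * y = algebraMap A T a →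
      ∃ f : N →ₐ[A] T, f u = x ∧ f v = y)
    (hext : ∀ {T : Type u} [CommRing T] [Algebra A T] (f g : N →ₐ[A] T), f u = g u → f v = g v → f = g) :
    Nonempty (Localization.Away (Polynomial.X : Polynomial A) ≃ₐ[A] Nu) := by
  let L := Localization.Away (Polynomial.X : Polynomial A)
  let x : L := algebraMap (Polynomial A) L Polynomial.X
  let x' : L := IsLocalization.Away.invSelf (Polynomial.X : Polynomial A)
  have hxx : x * x' = 1 := IsLocalization.Away.mul_invSelf _
  obtain ⟨φ, hφu, hφv⟩ := hlift x (algebraMap A L a * x') (by rw [mul_left_comm, hxx, mul_one])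
  let φ' : Nu →ₐ[A] L := IsLocalization.liftAlgHom (M := Submonoid.powers u) (f := φ) (fun y => by
    obtain ⟨m, hm⟩ := y.2
    show IsUnit (φ y.1)
    rw [← hm, map_pow, hφu]
    exact (IsUnit.of_mul_eq_one _ hxx).pow m)
  have hφ' : ∀ b, φ' (algebraMap N Nu b) = φ b := fun b => IsLocalization.lift_eq _ b
  let g : Polynomial A →ₐ[A] Nu := Polynomial.aeval (algebraMap N Nu u)
  let ψ : L →ₐ[A] Nu := IsLocalization.liftAlgHom (M := Submonoid.powers (Polynomial.X : Polynomial A)) (f := g)
    (fun y => by
      obtain ⟨m, hm⟩ := y.2
      show IsUnit (g y.1)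
      rw [← hm, map_pow, Polynomial.aeval_X]
      exact (IsLocalization.Away.algebraMap_isUnit u).pow m)
  have hψx : ψ x = algebraMap N Nu u := (IsLocalization.lift_eq _ _).trans (Polynomial.aeval_X _)
  have h1 : φ'.comp ψ = AlgHom.id A L :=
    IsLocalization.algHom_ext (Submonoid.powers (Polynomial.X : Polynomial A)) (Polynomial.algHom_ext (by
      show φ' (ψ x) = x
      rw [hψx, hφ', hφu]))
  have hψa : algebraMap A Nu a = algebraMap N Nu u * algebraMap N Nu v := by
    rw [← map_mul, huv, ← IsScalarTower.algebraMap_apply]
  have hinv : algebraMap N Nu u * ψ x' = 1 := by rw [← hψx, ← map_mul, hxx, map_one]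
  have h2 : ψ.comp φ' = AlgHom.id A Nu := by
    refine IsLocalization.algHom_ext (Submonoid.powers u) (hext _ _ ?_ ?_)
    · show ψ (φ' (algebraMap N Nu u)) = algebraMap N Nu u
      rw [hφ', hφu, hψx]
    · show ψ (φ' (algebraMap N Nu v)) = algebraMap N Nu v
      rw [hφ', hφv, map_mul, AlgHom.commutes, hψa, mul_right_comm, hinv, one_mul]
  exact ⟨AlgEquiv.ofAlgHom ψ φ' h2 h1⟩

/-- Off an axis the node is a punctured line. -/
theorem nonempty_node_away (i : Fin 2) :
    Nonempty (Localization.Away (Polynomial.X : Polynomial A) ≃ₐ[A]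
      Localization.Away (Ideal.Quotient.mk _ (MvPolynomial.X i) : StrictSS.NodeAlg A a)) := by
  refine nonempty_punctured _ (Ideal.Quotient.mk _ (MvPolynomial.X i.rev)) a (node_rel a i)
    (fun {T} _ _ x y hxy => ?_) (fun {T} _ _ f g hu hv => ?_)
  · let w : Fin 2 → T := fun j => if j = i then x else y
    have hw : w 0 * w 1 = algebraMap A T a := by
      fin_cases i <;> simp [w] <;> first | exact hxy | exact (mul_comm _ _).trans hxy
    refine ⟨Ideal.Quotient.liftₐ _ (MvPolynomial.aeval w) fun z hz => ?_, ?_, ?_⟩
    · obtain ⟨c, rfl⟩ := Ideal.mem_span_singleton'.1 hz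
      rw [map_mul, map_sub, map_mul, MvPolynomial.aeval_X, MvPolynomial.aeval_X, MvPolynomial.aeval_C, hw, sub_self,
        mul_zero]
    · exact (MvPolynomial.aeval_X w i).trans (if_pos rfl)
    · exact (MvPolynomial.aeval_X w i.rev).trans (if_neg (by fin_cases i <;> decide))
  · refine Ideal.Quotient.algHom_ext _ (MvPolynomial.algHom_ext fun j => ?_)
    have hj : j = i ∨ j = i.rev := by fin_cases i <;> fin_cases j <;> decide
    rcases hj with rfl | rfl
    · exact hu
    · exact hv

/-- Away from an axis the node is standard smooth. -/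
theorem isStandardSmooth_node_away (i : Fin 2) :
    Algebra.IsStandardSmoothOfRelativeDimension 1 A
      (Localization.Away (Ideal.Quotient.mk _ (MvPolynomial.X i) : StrictSS.NodeAlg A a)) := by
  obtain ⟨e⟩ := nonempty_node_away a i
  haveI : Algebra.IsStandardSmoothOfRelativeDimension 0 (Polynomial A) (Localization.Away (Polynomial.X : Polynomial A)) :=
    Algebra.IsStandardSmoothOfRelativeDimension.localization_away (Polynomial.X : Polynomial A)
  haveI : Algebra.IsStandardSmoothOfRelativeDimension 1 A (Localization.Away (Polynomial.X : Polynomial A)) :=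
    Algebra.IsStandardSmoothOfRelativeDimension.trans 1 0 A (Polynomial A) _
  exact Algebra.IsStandardSmoothOfRelativeDimension.of_algEquiv 1 e

end Node

end

end Groth.Agent.StrictSSX16
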